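import Groth.Agent.Lib.HilbObs26.Suppliers
import Groth.Agent.Lib.HypVan12.Tangent

/-!
Embedded deformations of hypersurfaces of projective space are unobstructed.
-/

set_option autoImplicit false
set_option backward.isDefEq.respectTransparency false
set_option maxHeartbeats 1000000
set_option linter.style.haveILetI false

universe u

open CategoryTheory CategoryTheory.Limits AlgebraicGeometry TopologicalSpace
open GrothLib.LocFreeHom
open GrothLib.OmegaPn27 (Wt OD OmegaP)

attribute [local instance] GrothLib.LocFreeHom.hasSheafHom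

noncomputable section

namespace GrothLib.HypUnobs26

variable {k : Type u} [Field k] {n d : ℕ}

/-- A hypersurface is a regular closed immersion. -/
theorem isRegular_hyp (F : LefPen.Form n k d) (hF : F ≠ 0) :
    Mor2.IsRegularClosedImmersion (LefPen.hypIdeal F).subschemeι := by
  refine ⟨inferInstance, fun z => ?_⟩
  let x := (LefPen.hypIdeal F).subschemeι z
  obtain ⟨j, hj⟩ := Opens.mem_iSup.1 ((Ample.ProjMap.iSup_basicOpen_X n k).ge (Opens.mem_top x))
  let U : (CohB1.ProjSpace n k).affineOpens := ⟨LefPen.chart n k j, HypSurf.isAffineOpen_chart j⟩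
  let e : MvPolynomial (Fin n) k ≃+* Γ(CohB1.ProjSpace n k, LefPen.chart n k j) :=
    RingEquiv.ofBijective _ (HypSurf.emb_bijective j)
  have hI : (LefPen.hypIdeal F).ideal U = Ideal.span {LefPen.dehom F j} := by
    rw [HypSurf.hypIdeal_ideal_eq F U j le_rfl, Ample.res_self]
  have hg : e (HypSurf.subst j F.1) = LefPen.dehom F j := by
    show HypSurf.emb j (HypSurf.subst j F.1) = _
    rw [HypSurf.emb_subst, CurveMult.PnMap.χ_form]
  have hne : LefPen.dehom F j ≠ 0 := fun h => hF (Subtype.ext (CI20.eq_zero_of_subst j F.2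
    (e.injective (by rw [hg, h, map_zero]))))
  haveI : IsDomain Γ(CohB1.ProjSpace n k, LefPen.chart n k j) := e.symm.toMulEquiv.isDomain _
  have hnu : ¬ IsUnit (LefPen.dehom F j) := fun hu => by
    have hx : x ∈ (LefPen.hypIdeal F).support := by
      have : x ∈ Set.range (LefPen.hypIdeal F).subschemeι := ⟨z, rfl⟩
      rwa [(LefPen.hypIdeal F).range_subschemeι] at this
    have h1 := ((LefPen.hypIdeal F).mem_support_iff_of_mem (U := U) hj).1 hx
    rw [hI] at h1
    exact ((CohB1.ProjSpace n k).mem_zeroLocus_iff _ _).1 h1 _ (Ideal.mem_span_singleton_self _) (by rw [Scheme.basicOpen_of_isUnit _ hu]; exact hj)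
  refine ⟨U.1, U.2, hj, [LefPen.dehom F j], ?_, ?_⟩
  · constructor
    · exact (RingTheory.Sequence.isWeaklyRegular_cons_iff _ _ _).2
        ⟨fun a b h => mul_left_cancel₀ hne h, RingTheory.Sequence.IsWeaklyRegular.nil _ _⟩
    · rw [smul_eq_mul, Ideal.mul_top, Ideal.ofList_singleton]
      exact fun h => hnu (Ideal.span_singleton_eq_top.1 h.symm)
  · rw [Scheme.IdealSheafData.ker_subschemeι, Ideal.ofList_singleton]
    exact hI

/-- The twist is invertible, with inverse the opposite twist, on the hypersurface. -/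
theorem nonempty_normal (F : LefPen.Form n k d) (hF : F ≠ 0) :
    Nonempty ((DCoh.sheafHom (Omega.conormal (LefPen.hypIdeal F).subschemeι)).obj
        (Coh.structureModule (LefPen.hypIdeal F).subscheme) ≅
      (Scheme.Modules.pullback (LefPen.hypIdeal F).subschemeι).obj (OD n k (d : ℤ))) := by
  let i := (LefPen.hypIdeal F).subschemeι
  obtain ⟨eI⟩ := CI20.nonempty_idealMod_hyp F hF
  let c : Omega.conormal i ≅ (Scheme.Modules.pullback i).obj (OD n k (-(d : ℤ))) :=
    (Scheme.Modules.pullback i).mapIso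
      (eqToIso (congrArg ClSub.idealMod (Scheme.IdealSheafData.ker_subschemeι _)) ≪≫ eI)
  obtain ⟨g⟩ := OmegaPn27.nonempty_twist_add n k (d : ℤ) (-(d : ℤ))
  obtain ⟨z⟩ := GrTilde.nonempty_structureModule_iso_twist_zero (CohB1.polyGrading n k)
  let u : CohB1.tensorMod ((Scheme.Modules.pullback i).obj (OD n k (d : ℤ)))
      ((Scheme.Modules.pullback i).obj (OD n k (-(d : ℤ)))) ≅ Coh.structureModule _ :=
    (OX.pullTensorIso i _ _).symm ≪≫ (Scheme.Modules.pullback i).mapIso
      (g ≪≫ eqToIso (congrArg (OD n k) (add_neg_cancel _)) ≪≫ z.symm) ≪≫ OX.pullUnitIso i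
  obtain ⟨w⟩ := HypVan12.nonempty_dual_inverse
    (RelProjK.isInvertible_pullback i (ProjPic26.isInvertible_twistProjSpace n k _)) u
  exact ⟨iHomCongr c.symm (Iso.refl _) ≪≫ w⟩

/-- The first cohomology of the restricted twist vanishes. -/
theorem subsingleton_h1 (hd : 1 ≤ d) (F : LefPen.Form n k d) (hF : F ≠ 0)
    [(LefPen.hypIdeal F).subscheme.Over (Spec (CommRingCat.of k))]
    [(LefPen.hypIdeal F).subschemeι.IsOver (Spec (CommRingCat.of k))] :
    Subsingleton (Coh.HH (LefPen.hypIdeal F).subscheme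
      ((Scheme.Modules.pullback (LefPen.hypIdeal F).subschemeι).obj (OD n k (d : ℤ))) 1) := by
  haveI : IsProper (CohB1.ProjSpace.toSpec n k) := Chow.isProper_toSpec n k
  haveI : QuasiSeparated (CohB1.ProjSpace.toSpec n k) := inferInstance
  have hfl : FlatMod.IsFinLocFree (OD n k (d : ℤ)) :=
    Euler.isFinLocFree_of_isInvertible (ProjPic26.isInvertible_twistProjSpace n k _)
  obtain ⟨S, hS, ⟨s1⟩, ⟨s2⟩, ⟨s3⟩⟩ := HypVan12.exists_restrict_seq (LefPen.hypIdeal F) hfl
  obtain ⟨eI⟩ := CI20.nonempty_idealMod_hyp F hF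
  obtain ⟨g⟩ := OmegaPn27.nonempty_twist_add n k (-(d : ℤ)) (d : ℤ)
  obtain ⟨wd⟩ := OmegaPn27.nonempty_Wt_zero_left n k (d : ℤ)
  obtain ⟨w0⟩ := OmegaPn27.nonempty_Wt_zero_left n k (0 : ℤ)
  let a : S.X₁ ≅ Wt n k 0 0 := s1 ≪≫ Ample.LineData.tensorModMapIso eI (Iso.refl _) ≪≫
    g ≪≫ eqToIso (congrArg (OD n k) (neg_add_cancel _)) ≪≫ w0.symm
  have h1 : ∀ q, q ≠ 0 → HypVan12.HD k S.X₁ q 0 := fun q hq =>
    (HypVan12.hd_zero (OmegaPn27.subsingleton_untwisted n k 0 q (Ne.symm hq))).iso a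
  have h2 : HypVan12.HD k S.X₂ 1 0 :=
    (HypVan12.hd_zero (OmegaPn27.subsingleton_pos n k (by omega : (0 : ℤ) < d) 0 one_pos)).iso (s2 ≪≫ wd.symm)
  have h3 := ((HypVan12.HD.of_seq hS (h1 1 one_ne_zero) (h1 2 two_ne_zero) h2).iso s3.symm).subsingleton
  obtain ⟨f⟩ := HypVan12.nonempty_push_equiv (k := k) (LefPen.hypIdeal F)
    (Iso.refl ((Scheme.Modules.pullback (LefPen.hypIdeal F).subschemeι).obj (OD n k (d : ℤ)))) 1
  exact f.symm.toEquiv.subsingleton

/-- Embedded deformations of a hypersurface lift along semismall extensions. -/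
theorem surjective_map (hd : 1 ≤ d) (F : LefPen.Form n k d) (hF : F ≠ 0)
    ⦃A' A : ArtFun.Art k k⦄ (p : A' ⟶ A) (hp : ArtFun.Art.IsSemismallExt p) :
    Function.Surjective
      ((ArtFun.localHilb (CohB1.ProjSpace n k) (CohB1.ProjSpace.toSpec n k) (LefPen.hypIdeal F)).map p) := by
  haveI : IsProper (CohB1.ProjSpace.toSpec n k) := Chow.isProper_toSpec n k
  haveI : IsLocallyNoetherian (CohB1.ProjSpace n k) :=
    LocallyOfFiniteType.isLocallyNoetherian (CohB1.ProjSpace.toSpec n k)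
  letI : (LefPen.hypIdeal F).subscheme.Over (Spec (CommRingCat.of k)) :=
    ⟨(LefPen.hypIdeal F).subschemeι ≫ CohB1.ProjSpace.toSpec n k⟩
  haveI : (LefPen.hypIdeal F).subschemeι.IsOver (Spec (CommRingCat.of k)) := ⟨rfl⟩
  obtain ⟨T⟩ := HilbObs26.hasObsTheory_subscheme (CohB1.ProjSpace.toSpec n k) (LefPen.hypIdeal F)
    (isRegular_hyp F hF) rfl
  obtain ⟨e⟩ := nonempty_normal F hF
  haveI := subsingleton_h1 hd F hF
  haveI : Subsingleton (Coh.HH (LefPen.hypIdeal F).subscheme
      ((DCoh.sheafHom (Omega.conormal (LefPen.hypIdeal F).subschemeι)).obj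
        (Coh.structureModule (LefPen.hypIdeal F).subscheme)) 1) :=
    (Euler.hhEquiv (A := k) e 1).toEquiv.subsingleton
  intro u
  exact (T.obs_eq_zero_iff p hp u).1 (Subsingleton.elim _ _)

end GrothLib.HypUnobs26
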